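/-
If an ideal `D` of `B` is locally generated by regular sequences, then a symmetric tensor in
`D ⊗_B D` with product zero vanishes.
-/
import Groth.Agent.Lib.CotT3.Regular
import Mathlib.LinearAlgebra.TensorProduct.Tower

set_option autoImplicit false
set_option linter.style.haveILetI false

universe u v

open TensorProduct

noncomputable section

namespace Groth.Agent.DiagH28

variable {B : Type u} [CommRing B] (D : Ideal B)

/-- the product map `D ⊗ D → B` -/
def mulD : ↥D ⊗[B] ↥D →ₗ[B] B :=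
  TensorProduct.lift ((LinearMap.mul B B).compl₁₂ D.subtype D.subtype)

@[simp] theorem mulD_tmul (x y : ↥D) : mulD D (x ⊗ₜ[B] y) = (x : B) * (y : B) := by
  simp [mulD]

/-- the product map `D ⊗ D → D` -/
def mulD' : ↥D ⊗[B] ↥D →ₗ[B] ↥D :=
  (mulD D).codRestrict D fun e => by
    induction e with
    | zero => simp
    | tmul x y => simpa using Ideal.mul_mem_right _ _ x.2
    | add a b ha hb => simpa using Submodule.add_mem _ ha hb

theorem smul_eq_tmul_mulD' (z : ↥D) (e : ↥D ⊗[B] ↥D) : (z : B) • e = z ⊗ₜ[B] mulD' D e := by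
  induction e with
  | zero => simp
  | tmul x y =>
    have h1 : (z : B) • x = (x : B) • z := Subtype.ext (mul_comm _ _)
    have h2 : mulD' D (x ⊗ₜ[B] y) = (x : B) • y := Subtype.ext (by simp [mulD'])
    rw [h2, TensorProduct.smul_tmul', h1, TensorProduct.smul_tmul]
  | add a b ha hb => rw [smul_add, ha, hb, map_add, TensorProduct.tmul_add]

theorem smul_eq_zero_of_mulD_eq_zero (z : ↥D) (e : ↥D ⊗[B] ↥D) (he : mulD D e = 0) :
    (z : B) • e = 0 := by
  rw [smul_eq_tmul_mulD', show mulD' D e = 0 from Subtype.ext he, TensorProduct.tmul_zero]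

theorem mulD_comm (e : ↥D ⊗[B] ↥D) : mulD D (TensorProduct.comm B ↥D ↥D e) = mulD D e := by
  induction e with
  | zero => simp
  | tmul x y => simp [mul_comm]
  | add a b ha hb => simp [ha, hb]

/-- `Σ (f_i ⊗ y_i + y_i ⊗ f_i)` -/
def sE {n : ℕ} (f y : Fin n → ↥D) : ↥D ⊗[B] ↥D :=
  ∑ i, (f i ⊗ₜ[B] y i + y i ⊗ₜ[B] f i)

variable (P : Ideal B) [P.IsPrime]

theorem sE_torsion : ∀ {n : ℕ} (f : Fin n → ↥D),
    (∀ (i : Fin n) (b : B), (f i : B) * b ∈ Ideal.span ((fun j => (f j : B)) '' Set.Iio i) →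
      ∃ s ∉ P, s * b ∈ Ideal.span ((fun j => (f j : B)) '' Set.Iio i)) →
    ∀ y : Fin n → ↥D, ∑ i, (f i : B) * (y i : B) = 0 → ∃ s ∉ P, s • sE D f y = 0 := by
  intro n
  induction n with
  | zero =>
    intro f _ y _
    exact ⟨1, fun h => Ideal.IsPrime.ne_top ‹_› ((Ideal.eq_top_iff_one P).2 h), by simp [sE]⟩
  | succ n ih =>
    intro f hf y hy
    let g : Fin n → ↥D := fun i => f i.castSucc
    have himg : ∀ i : Fin n, (fun j => (g j : B)) '' Set.Iio i =
        (fun j => (f j : B)) '' Set.Iio i.castSucc := by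
      intro i
      ext b
      constructor
      · rintro ⟨j, hj, rfl⟩
        exact ⟨j.castSucc, Fin.castSucc_lt_castSucc_iff.2 hj, rfl⟩
      · rintro ⟨j, hj, rfl⟩
        obtain ⟨j', rfl⟩ : ∃ j', Fin.castSucc j' = j :=
          Fin.exists_castSucc_eq.2 (ne_of_lt (lt_of_lt_of_le hj (Fin.le_last _)))
        exact ⟨j', Fin.castSucc_lt_castSucc_iff.1 hj, rfl⟩
    have hlast : (fun j => (f j : B)) '' Set.Iio (Fin.last n) = Set.range fun i => (g i : B) := by
      ext b
      constructor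
      · rintro ⟨j, hj, rfl⟩
        obtain ⟨j', rfl⟩ : ∃ j', Fin.castSucc j' = j := Fin.exists_castSucc_eq.2 (ne_of_lt hj)
        exact ⟨j', rfl⟩
      · rintro ⟨j, rfl⟩
        exact ⟨j.castSucc, Fin.castSucc_lt_last j, rfl⟩
    rw [Fin.sum_univ_castSucc] at hy
    obtain ⟨s, hs, hsy⟩ := hf (Fin.last n) (y (Fin.last n) : B) (by
      rw [hlast, eq_neg_of_add_eq_zero_right hy]
      refine Submodule.neg_mem _ (Ideal.sum_mem _ fun i _ => Ideal.mul_mem_right _ _ ?_)
      exact Ideal.subset_span ⟨i, rfl⟩)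
    rw [hlast] at hsy
    obtain ⟨a, ha⟩ := Ideal.mem_span_range_iff_exists_fun.1 hsy
    let y' : Fin n → ↥D := fun i => s • y i.castSucc + a i • f (Fin.last n)
    have hy' : ∑ i, (g i : B) * (y' i : B) = 0 := by
      have h1 : ∀ i, (g i : B) * (y' i : B) =
          s * ((f i.castSucc : B) * (y i.castSucc : B)) + (f (Fin.last n) : B) * (a i * (g i : B)) := by
        intro i
        simp only [y', g, Submodule.coe_add, Submodule.coe_smul, smul_eq_mul]
        ring
      rw [Finset.sum_congr rfl fun i _ => h1 i, Finset.sum_add_distrib, ← Finset.mul_sum,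
        ← Finset.mul_sum, ha]
      linear_combination s * hy
    have hylast : s • y (Fin.last n) = ∑ i, a i • g i := Subtype.ext (by
      simpa using ha.symm)
    have key : s • sE D f y = sE D g y' := by
      unfold sE
      rw [Fin.sum_univ_castSucc, smul_add, Finset.smul_sum, smul_add,
        ← TensorProduct.tmul_smul, TensorProduct.smul_tmul' s (y (Fin.last n)) (f (Fin.last n)),
        hylast, TensorProduct.tmul_sum, TensorProduct.sum_tmul, ← Finset.sum_add_distrib,
        ← Finset.sum_add_distrib]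
      refine Finset.sum_congr rfl fun i _ => ?_
      have hsw : ∀ u w : ↥D, ∀ c : B, u ⊗ₜ[B] (c • w) = (c • u) ⊗ₜ[B] w := fun u w c =>
        (TensorProduct.smul_tmul c u w).symm
      simp only [y', g, TensorProduct.tmul_add, TensorProduct.add_tmul, smul_add,
        TensorProduct.smul_tmul', hsw]
      abel
    obtain ⟨t, ht, h0⟩ := ih g (fun i b hb => by
      obtain ⟨s', hs', h'⟩ := hf i.castSucc b (by rwa [← himg i])
      exact ⟨s', hs', by rwa [himg i]⟩) y' hy'
    refine ⟨t * s, fun h => ?_, by rw [mul_smul, key, h0]⟩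
    exact (Ideal.IsPrime.mem_or_mem ‹_› h).elim ht hs

theorem exists_smul_eq_sum {n : ℕ} (f : Fin n → ↥D)
    (hgen : ∀ d ∈ D, ∃ s ∉ P, s * d ∈ Ideal.span (Set.range fun j => (f j : B)))
    (e : ↥D ⊗[B] ↥D) : ∃ s ∉ P, ∃ y : Fin n → ↥D, s • e = ∑ i, f i ⊗ₜ[B] y i := by
  induction e with
  | zero =>
    exact ⟨1, fun h => Ideal.IsPrime.ne_top ‹_› ((Ideal.eq_top_iff_one P).2 h), 0, by simp⟩
  | tmul x w =>
    obtain ⟨s, hs, hsx⟩ := hgen x x.2
    obtain ⟨a, ha⟩ := Ideal.mem_span_range_iff_exists_fun.1 hsx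
    refine ⟨s, hs, fun i => a i • w, ?_⟩
    have hx : s • x = ∑ i, a i • f i := Subtype.ext (by simpa using ha.symm)
    rw [TensorProduct.smul_tmul', hx, TensorProduct.sum_tmul]
    exact Finset.sum_congr rfl fun i _ => TensorProduct.smul_tmul _ _ _
  | add e₁ e₂ h₁ h₂ =>
    obtain ⟨s₁, hs₁, y₁, hy₁⟩ := h₁
    obtain ⟨s₂, hs₂, y₂, hy₂⟩ := h₂
    refine ⟨s₁ * s₂, fun h => (Ideal.IsPrime.mem_or_mem ‹_› h).elim hs₁ hs₂,
      fun i => s₂ • y₁ i + s₁ • y₂ i, ?_⟩
    rw [smul_add, mul_comm s₁ s₂, mul_smul, hy₁, mul_comm s₂ s₁, mul_smul, hy₂, Finset.smul_sum,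
      Finset.smul_sum, ← Finset.sum_add_distrib]
    simp [TensorProduct.tmul_add, TensorProduct.tmul_smul]

theorem smul_add_comm_eq_zero {n : ℕ} (f : Fin n → ↥D)
    (hgen : ∀ d ∈ D, ∃ s ∉ P, s * d ∈ Ideal.span (Set.range fun j => (f j : B)))
    (hreg : ∀ (i : Fin n) (b : B), (f i : B) * b ∈ Ideal.span ((fun j => (f j : B)) '' Set.Iio i) →
      ∃ s ∉ P, s * b ∈ Ideal.span ((fun j => (f j : B)) '' Set.Iio i))
    (e : ↥D ⊗[B] ↥D) (he : mulD D e = 0) :
    ∃ s ∉ P, s • (e + TensorProduct.comm B ↥D ↥D e) = 0 := by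
  obtain ⟨s, hs, y, hy⟩ := exists_smul_eq_sum D P f hgen e
  obtain ⟨t, ht, h0⟩ := sE_torsion D P f hreg y (by
    have := congrArg (mulD D) hy
    simpa [map_sum, he] using this.symm)
  refine ⟨t * s, fun h => (Ideal.IsPrime.mem_or_mem ‹_› h).elim ht hs, ?_⟩
  have h1 : s • (e + TensorProduct.comm B ↥D ↥D e) = sE D f y := by
    rw [smul_add, ← map_smul, hy, map_sum, ← Finset.sum_add_distrib]
    simp [sE]
  rw [mul_smul, h1, h0]

/-- The key lemma: if at every prime containing `D` the ideal `D` is generated by a sequence which is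
regular there, then `e + τ e = 0` for every `e` in the kernel of `D ⊗ D → B`. -/
theorem add_comm_eq_zero
    (h : ∀ (Q : Ideal B) [Q.IsPrime], D ≤ Q → ∃ (n : ℕ) (f : Fin n → ↥D),
      (∀ d ∈ D, ∃ s ∉ Q, s * d ∈ Ideal.span (Set.range fun j => (f j : B))) ∧
      (∀ (i : Fin n) (b : B), (f i : B) * b ∈ Ideal.span ((fun j => (f j : B)) '' Set.Iio i) →
        ∃ s ∉ Q, s * b ∈ Ideal.span ((fun j => (f j : B)) '' Set.Iio i)))
    (e : ↥D ⊗[B] ↥D) (he : mulD D e = 0) : e + TensorProduct.comm B ↥D ↥D e = 0 := by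
  set z := e + TensorProduct.comm B ↥D ↥D e with hz
  let ann : Ideal B :=
    { carrier := {b | b • z = 0}
      zero_mem' := zero_smul _ _
      add_mem' := fun {a b} ha hb => by
        simp only [Set.mem_setOf_eq] at ha hb ⊢
        rw [add_smul, ha, hb, add_zero]
      smul_mem' := fun c b hb => by
        simp only [Set.mem_setOf_eq] at hb ⊢
        rw [smul_eq_mul, mul_smul, hb, smul_zero] }
  have htop : ann = ⊤ := by
    by_contra hne
    obtain ⟨M, hM, hle⟩ := Ideal.exists_le_maximal ann hne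
    by_cases hD : D ≤ M
    · obtain ⟨n, f, hgen, hreg⟩ := h M hD
      obtain ⟨s, hs, h0⟩ := smul_add_comm_eq_zero D M f hgen hreg e he
      exact hs (hle h0)
    · obtain ⟨d, hd, hdM⟩ := SetLike.not_le_iff_exists.1 hD
      refine hdM (hle (show d • z = 0 from ?_))
      rw [hz, smul_add, smul_eq_zero_of_mulD_eq_zero D ⟨d, hd⟩ e he,
        smul_eq_zero_of_mulD_eq_zero D ⟨d, hd⟩ _ (by rw [mulD_comm, he]), add_zero]
  have h1 : (1 : B) ∈ ann := htop ▸ Submodule.mem_top
  simpa using (show (1 : B) • z = 0 from h1)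

/-- Regular generators of an ideal `D` with regular quotient in a regular ring, at a prime
containing it. -/
theorem exists_local_regular_generators (Q : Ideal B) [Q.IsPrime] (hQ : D ≤ Q)
    {C : Type u} [CommRing C] (φ : B →+* C) (hφ : Function.Surjective φ) (hker : RingHom.ker φ = D)
    (hB : ∀ (q : Ideal B) [q.IsPrime], IsRegularLocalRing (Localization.AtPrime q))
    (hC : ∀ (q : Ideal C) [q.IsPrime], IsRegularLocalRing (Localization.AtPrime q)) :
    ∃ (n : ℕ) (f : Fin n → ↥D),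
      (∀ d ∈ D, ∃ s ∉ Q, s * d ∈ Ideal.span (Set.range fun j => (f j : B))) ∧
      (∀ (i : Fin n) (b : B), (f i : B) * b ∈ Ideal.span ((fun j => (f j : B)) '' Set.Iio i) →
        ∃ s ∉ Q, s * b ∈ Ideal.span ((fun j => (f j : B)) '' Set.Iio i)) := by
  subst hker
  let q : Ideal C := Q.map φ
  haveI : q.IsPrime := Ideal.map_isPrime_of_surjective hφ hQ
  have hqQ : q.comap φ = Q := by
    rw [Ideal.comap_map_of_surjective φ hφ]
    exact sup_eq_left.2 hQ
  haveI := hB Q
  let ψ : Localization.AtPrime Q →+* Localization.AtPrime q := Localization.localRingHom Q q φ hqQ.symm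
  have hψ : Function.Surjective ψ := by
    intro y
    obtain ⟨b, s, rfl⟩ := IsLocalization.exists_mk'_eq q.primeCompl y
    obtain ⟨r, hr⟩ := hφ b
    obtain ⟨t, ht⟩ := hφ s
    have htp : t ∈ Q.primeCompl := fun h => s.2 (ht ▸ Ideal.mem_map_of_mem φ h)
    refine ⟨IsLocalization.mk' _ r ⟨t, htp⟩, ?_⟩
    rw [Localization.localRingHom_mk']
    simp only [hr]
    congr 1
    exact Subtype.ext ht
  let α := algebraMap B (Localization.AtPrime Q)
  let I' := (RingHom.ker φ).map α
  have hkerψ : RingHom.ker ψ = I' := by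
    refine le_antisymm (fun x hx => ?_) (Ideal.map_le_iff_le_comap.2 fun r hr => ?_)
    · obtain ⟨r, ⟨t, ht⟩, rfl⟩ := IsLocalization.exists_mk'_eq Q.primeCompl x
      rw [RingHom.mem_ker, Localization.localRingHom_mk', IsLocalization.mk'_eq_zero_iff] at hx
      obtain ⟨⟨u, hu⟩, hur⟩ := hx
      obtain ⟨u', rfl⟩ := hφ u
      have hu' : u' ∉ Q := fun h => hu (Ideal.mem_map_of_mem φ h)
      have hmem : u' * r ∈ RingHom.ker φ := (map_mul φ u' r).trans hur
      rw [IsLocalization.mk'_eq_mul_mk'_one]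
      refine Ideal.mul_mem_right _ _ ?_
      exact (Ideal.unit_mul_mem_iff_mem _
        (IsLocalization.map_units (Localization.AtPrime Q) (⟨u', hu'⟩ : Q.primeCompl))).1
        (by rw [← map_mul]; exact Ideal.mem_map_of_mem _ hmem)
    · rw [Ideal.mem_comap, RingHom.mem_ker, Localization.localRingHom_to_map, RingHom.mem_ker.1 hr,
        map_zero]
  haveI : IsRegularLocalRing (Localization.AtPrime Q ⧸ I') := by
    haveI := hC q
    exact IsRegularLocalRing.of_ringEquiv
      ((Ideal.quotEquivOfEq hkerψ.symm).trans (RingHom.quotientKerEquivOfSurjective hψ)).symm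
  obtain ⟨x, c, hc, hx, hI⟩ :=
    RegLoc.exists_generators_of_regular_quotient _ (Localization.AtPrime Q) I' rfl
  have hxreg : CotT3.RegA x := (CotT3.regA_iff_isWeaklyRegular x).2
    (RegLoc.isRegular_of_span_range _ (Localization.AtPrime Q) x hx rfl).toIsWeaklyRegular
  have hlift : ∀ l : Fin c, ∃ (a : ↥(RingHom.ker φ)) (v : (Localization.AtPrime Q)ˣ),
      α a = (v : Localization.AtPrime Q) * x (Fin.castLE hc l) := by
    intro l
    have h1 : x (Fin.castLE hc l) ∈ I' := hI ▸ Ideal.subset_span ⟨l, rfl⟩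
    obtain ⟨⟨a, s⟩, h2⟩ := (IsLocalization.mem_map_algebraMap_iff Q.primeCompl _).1 h1
    exact ⟨a, (IsLocalization.map_units (Localization.AtPrime Q) s).unit, by
      rw [IsUnit.unit_spec, mul_comm]; exact h2.symm⟩
  choose a v hav using hlift
  have hspan : I' = (Ideal.span (Set.range fun l => (a l : B))).map α := by
    rw [Ideal.map_span, ← Set.range_comp]
    refine hI.trans (le_antisymm (Ideal.span_le.2 ?_) (Ideal.span_le.2 ?_))
    · rintro _ ⟨l, rfl⟩
      exact (Ideal.unit_mul_mem_iff_mem _ (v l).isUnit).1 (hav l ▸ Ideal.subset_span ⟨l, rfl⟩)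
    · rintro _ ⟨l, rfl⟩
      change α (a l) ∈ _
      rw [hav l]
      exact Ideal.mul_mem_left _ _ (Ideal.subset_span ⟨l, rfl⟩)
  have hreg : CotT3.RegA fun l => α (a l) := by
    rw [funext hav]
    exact (hxreg.prefix hc).units_mul v
  refine ⟨c, a, fun d hd => ?_, fun i b hb => ?_⟩
  · have : α d ∈ (Ideal.span (Set.range fun l => (a l : B))).map α :=
      hspan ▸ Ideal.mem_map_of_mem α hd
    obtain ⟨s, hs, h⟩ := (IsLocalization.algebraMap_mem_map_algebraMap_iff Q.primeCompl _ _ _).1 this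
    exact ⟨s, hs, h⟩
  · have himg : (Ideal.span ((fun j => (a j : B)) '' Set.Iio i)).map α =
        Ideal.span ((fun l => α (a l)) '' Set.Iio i) := by
      rw [Ideal.map_span, Set.image_image]
    have h1 : α b ∈ (Ideal.span ((fun j => (a j : B)) '' Set.Iio i)).map α := by
      rw [himg]
      refine hreg i _ ?_
      rw [← map_mul, ← himg]
      exact Ideal.mem_map_of_mem α hb
    obtain ⟨s, hs, h⟩ := (IsLocalization.algebraMap_mem_map_algebraMap_iff Q.primeCompl _ _ _).1 h1
    exact ⟨s, hs, h⟩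

end Groth.Agent.DiagH28
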