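/-
The symmetric invariants in the intersection of the three diagonal ideals of `A ⊗ A ⊗ A`.
-/
import Groth.Agent.Lib.DiagH28.SymSquare
import Mathlib.RingTheory.PiTensorProduct
import Mathlib.RingTheory.Kaehler.Basic
import Mathlib.RingTheory.Smooth.Basic
import Mathlib.RingTheory.RingHom.Smooth
import Mathlib.Algebra.CharP.Invertible

set_option autoImplicit false
set_option linter.style.haveILetI false

universe u v

open TensorProduct

noncomputable section

namespace Groth.Agent.DiagH28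

section Regular

variable (k : Type u) [Field k] (A : Type v) [CommRing A] [Algebra k A] [Algebra.Smooth k A]
  [Nontrivial A]

/-- Localizations of a smooth algebra over a field, universe-polymorphic version. -/
theorem isRegularLocalRing_of_smooth' (B : Type v) [CommRing B] [Algebra k B] [Algebra.Smooth k B]
    [Nontrivial B] (q : Ideal B) [q.IsPrime] : IsRegularLocalRing (Localization.AtPrime q) := by
  have hinj : Function.Injective (algebraMap k B) := (algebraMap k B).injective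
  let e : k →+* (algebraMap k B).range := (algebraMap k B).rangeRestrict
  have he : Function.Bijective e :=
    ⟨fun a b h => hinj (congrArg Subtype.val h), (algebraMap k B).rangeRestrict_surjective⟩
  let e' := RingEquiv.ofBijective e he
  letI : Field (algebraMap k B).range :=
    (MulEquiv.isField (Field.toIsField k) e'.symm.toMulEquiv).toField
  let f : (algebraMap k B).range →+* B := (algebraMap k B).comp e'.symm.toRingHom
  have hf : f.Smooth :=
    RingHom.Smooth.comp (RingHom.Smooth.of_bijective e'.symm.bijective)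
      (RingHom.smooth_algebraMap.2 inferInstance)
  exact SmoothReg17.isRegularLocalRing_of_smooth f hf q

theorem nontrivial_tensor : Nontrivial (A ⊗[k] A) :=
  (Algebra.TensorProduct.lmul' (S := A) k).toRingHom.domain_nontrivial

theorem symSquare_diagonal (e : ↥(KaehlerDifferential.ideal k A) ⊗[A ⊗[k] A] ↥(KaehlerDifferential.ideal k A))
    (he : mulD _ e = 0) : e + TensorProduct.comm (A ⊗[k] A) _ _ e = 0 := by
  haveI := nontrivial_tensor k A
  haveI : Algebra.Smooth k (A ⊗[k] A) := Algebra.Smooth.comp k A (A ⊗[k] A)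
  refine add_comm_eq_zero _ (fun Q _ hQ => ?_) e he
  exact exists_local_regular_generators _ Q hQ (Algebra.TensorProduct.lmul' (S := A) k).toRingHom
    (fun a => ⟨a ⊗ₜ 1, by simp⟩) rfl (fun q _ => isRegularLocalRing_of_smooth' k _ q)
    (fun q _ => isRegularLocalRing_of_smooth' k _ q)

end Regular

variable {k : Type u} [Field k] {A : Type v} [CommRing A] [Algebra k A]

local notation "T3" => PiTensorProduct k (fun _ : Fin 3 => A)

/-- The inclusion of the `i`-th factor. -/
def inc (i : Fin 3) : A →ₐ[k] T3 := PiTensorProduct.singleAlgHom (R := k) (A := fun _ : Fin 3 => A) i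

/-- An algebra map out of the triple tensor power. -/
def lift3 {S : Type*} [CommRing S] [Algebra k S] (f : Fin 3 → A →ₐ[k] S) : T3 →ₐ[k] S :=
  PiTensorProduct.liftAlgHom
    ((MultilinearMap.mkPiAlgebra k (Fin 3) S).compLinearMap fun i => (f i).toLinearMap)
    (by simp) (fun x y => by simp [Finset.prod_mul_distrib])

theorem lift3_tprod {S : Type*} [CommRing S] [Algebra k S] (f : Fin 3 → A →ₐ[k] S) (a : Fin 3 → A) :
    lift3 f (PiTensorProduct.tprod k a) = ∏ i, f i (a i) := by
  simp [lift3, PiTensorProduct.liftAlgHom]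

@[simp] theorem lift3_inc {S : Type*} [CommRing S] [Algebra k S] (f : Fin 3 → A →ₐ[k] S) (i : Fin 3)
    (a : A) : lift3 f (inc i a) = f i a := by
  change lift3 f (PiTensorProduct.tprod k (MonoidHom.mulSingle _ i a)) = _
  rw [lift3_tprod, Fintype.prod_eq_single i]
  · simp
  · intro j hj
    simp [MonoidHom.mulSingle_apply, Pi.mulSingle_eq_of_ne hj]

theorem prod_inc (a : Fin 3 → A) : ∏ i, inc (k := k) i (a i) = PiTensorProduct.tprod k a := by
  change ∏ i, PiTensorProduct.tprod k (MonoidHom.mulSingle (fun _ : Fin 3 => A) i (a i)) = _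
  rw [← PiTensorProduct.tprod_prod]
  congr 1
  exact Finset.univ_prod_mulSingle a

theorem algHom_ext3 {S : Type*} [CommRing S] [Algebra k S] {f g : T3 →ₐ[k] S}
    (h : ∀ i a, f (inc i a) = g (inc i a)) : f = g :=
  PiTensorProduct.algHom_ext fun i => AlgHom.ext fun a => h i a

/-- The section on factors 0, 1. -/
def sec : A ⊗[k] A →ₐ[k] T3 := Algebra.TensorProduct.lift (inc 0) (inc 1) fun _ _ => Commute.all _ _

/-- The section on factors 0, 2. -/
def sec' : A ⊗[k] A →ₐ[k] T3 := Algebra.TensorProduct.lift (inc 0) (inc 2) fun _ _ => Commute.all _ _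

/-- The diagonal ideal of factors `i, j`. -/
def dI (i j : Fin 3) : Ideal T3 := Ideal.span (Set.range fun a : A => inc i a - inc j a)

def pL : T3 →ₐ[k] A ⊗[k] A := lift3 ![Algebra.TensorProduct.includeLeft, Algebra.TensorProduct.includeRight,
  Algebra.TensorProduct.includeRight]

def pK : T3 →ₐ[k] A ⊗[k] A := lift3 ![Algebra.TensorProduct.includeLeft, Algebra.TensorProduct.includeRight,
  Algebra.TensorProduct.includeLeft]

def swap12 : T3 →ₐ[k] T3 := lift3 ![inc 0, inc 2, inc 1]

theorem map_dI_le {S : Type*} [CommRing S] [Algebra k S] (f : T3 →ₐ[k] S) (i j : Fin 3) (I : Ideal S)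
    (h : ∀ a, f (inc i a) - f (inc j a) ∈ I) : dI i j ≤ I.comap f := by
  refine Ideal.span_le.2 ?_
  rintro _ ⟨a, rfl⟩
  simpa using h a

theorem sub_sec_mem (i j : Fin 3) (f : T3 →ₐ[k] T3) (h : ∀ l a, inc l a - f (inc l a) ∈ dI i j) (x : T3) :
    x - f x ∈ dI i j := by
  have : (Ideal.Quotient.mkₐ k (dI (k := k) (A := A) i j)).comp f = Ideal.Quotient.mkₐ k _ := by
    refine algHom_ext3 fun l a => ?_
    exact (Ideal.Quotient.eq.2 (h l a)).symm
  exact Ideal.Quotient.eq.1 (DFunLike.congr_fun this x).symm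

@[simp] theorem pL_sec (x : A ⊗[k] A) : pL (sec x) = x := by
  have : (pL (k := k) (A := A)).comp sec = AlgHom.id k _ := by
    ext a <;> simp [pL, sec]
  exact DFunLike.congr_fun this x

@[simp] theorem pL_sec' (x : A ⊗[k] A) : pL (sec' x) = x := by
  have : (pL (k := k) (A := A)).comp sec' = AlgHom.id k _ := by
    ext a <;> simp [pL, sec']
  exact DFunLike.congr_fun this x

@[simp] theorem pK_sec (x : A ⊗[k] A) : pK (sec x) = x := by
  have : (pK (k := k) (A := A)).comp sec = AlgHom.id k _ := by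
    ext a <;> simp [pK, sec]
  exact DFunLike.congr_fun this x

@[simp] theorem swap12_sec (x : A ⊗[k] A) : swap12 (sec x) = sec' x := by
  have : (swap12 (k := k) (A := A)).comp sec = sec' := by
    ext a <;> simp [swap12, sec, sec']
  exact DFunLike.congr_fun this x

@[simp] theorem swap12_sec' (x : A ⊗[k] A) : swap12 (sec' x) = sec x := by
  have : (swap12 (k := k) (A := A)).comp sec' = sec := by
    ext a <;> simp [swap12, sec, sec']
  exact DFunLike.congr_fun this x

theorem sub_secL (x : T3) : x - sec (pL x) ∈ dI 1 2 := by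
  refine sub_sec_mem 1 2 (sec.comp pL) (fun l a => ?_) x
  fin_cases l
  · simp [pL, sec]
  · simp [pL, sec]
  · have : inc (k := k) (2 : Fin 3) a - inc 1 a ∈ dI 1 2 := by
      rw [← neg_sub]; exact Submodule.neg_mem _ (Ideal.subset_span ⟨a, rfl⟩)
    simpa [pL, sec] using this

theorem sub_secK (x : T3) : x - sec (pK x) ∈ dI 0 2 := by
  refine sub_sec_mem 0 2 (sec.comp pK) (fun l a => ?_) x
  fin_cases l
  · simp [pK, sec]
  · simp [pK, sec]
  · have : inc (k := k) (2 : Fin 3) a - inc 0 a ∈ dI 0 2 := by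
      rw [← neg_sub]; exact Submodule.neg_mem _ (Ideal.subset_span ⟨a, rfl⟩)
    simpa [pK, sec] using this

theorem sec'_sub_sec_mem (x : A ⊗[k] A) : sec' x - sec x ∈ dI 1 2 := by
  have := sub_secL (sec' x)
  rwa [pL_sec'] at this

local notation "DD" => KaehlerDifferential.ideal k A

theorem map_sec : Ideal.map (sec (k := k) (A := A)) DD = dI 0 1 := by
  rw [← KaehlerDifferential.span_range_eq_ideal, Ideal.map_span, ← Set.range_comp]
  refine le_antisymm (Ideal.span_le.2 ?_) (Ideal.span_le.2 ?_)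
  · rintro _ ⟨a, rfl⟩
    have : inc (k := k) (1 : Fin 3) a - inc 0 a ∈ dI 0 1 := by
      rw [← neg_sub]; exact Submodule.neg_mem _ (Ideal.subset_span ⟨a, rfl⟩)
    simpa [sec] using this
  · rintro _ ⟨a, rfl⟩
    simp only [SetLike.mem_coe]
    rw [show inc (k := k) (0 : Fin 3) a - inc 1 a = -(sec (1 ⊗ₜ a - a ⊗ₜ 1)) by simp [sec]]
    exact Submodule.neg_mem _ (Ideal.subset_span ⟨a, rfl⟩)

theorem map_sec' : Ideal.map (sec' (k := k) (A := A)) DD = dI 0 2 := by
  rw [← KaehlerDifferential.span_range_eq_ideal, Ideal.map_span, ← Set.range_comp]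
  refine le_antisymm (Ideal.span_le.2 ?_) (Ideal.span_le.2 ?_)
  · rintro _ ⟨a, rfl⟩
    have : inc (k := k) (2 : Fin 3) a - inc 0 a ∈ dI 0 2 := by
      rw [← neg_sub]; exact Submodule.neg_mem _ (Ideal.subset_span ⟨a, rfl⟩)
    simpa [sec'] using this
  · rintro _ ⟨a, rfl⟩
    simp only [SetLike.mem_coe]
    rw [show inc (k := k) (0 : Fin 3) a - inc 2 a = -(sec' (1 ⊗ₜ a - a ⊗ₜ 1)) by simp [sec']]
    exact Submodule.neg_mem _ (Ideal.subset_span ⟨a, rfl⟩)

theorem pK_dI (f : T3) (hf : f ∈ dI (k := k) (A := A) 0 2) : pK f = 0 := by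
  have h : dI (k := k) (A := A) 0 2 ≤ (⊥ : Ideal (A ⊗[k] A)).comap pK :=
    map_dI_le pK 0 2 ⊥ (fun a => by simp [pK])
  simpa using h hf

theorem pL_dI (f : T3) (hf : f ∈ dI (k := k) (A := A) 1 2) : pL f = 0 := by
  have h : dI (k := k) (A := A) 1 2 ≤ (⊥ : Ideal (A ⊗[k] A)).comap pL :=
    map_dI_le pL 1 2 ⊥ (fun a => by simp [pL])
  simpa using h hf

theorem exists_sec_sub_mem (g : T3) (hg : g ∈ dI (k := k) (A := A) 0 1) :
    ∃ d ∈ DD, g - sec d ∈ dI (k := k) (A := A) 0 1 * dI 0 2 := by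
  have hJ : ∀ d ∈ DD, sec d ∈ dI (k := k) (A := A) 0 1 := fun d hd =>
    (map_sec (k := k) (A := A)) ▸ Ideal.mem_map_of_mem _ hd
  have hg' : g ∈ Ideal.span ((sec (k := k) (A := A)) '' (DD : Set (A ⊗[k] A))) := by
    rw [← map_sec] at hg
    exact hg
  clear hg
  induction hg' using Submodule.span_induction with
  | mem x hx =>
    obtain ⟨d, hd, rfl⟩ := hx
    exact ⟨d, hd, by rw [sub_self]; exact Submodule.zero_mem _⟩
  | zero => exact ⟨0, Submodule.zero_mem _, by rw [map_zero, sub_zero]; exact Submodule.zero_mem _⟩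
  | add x y _ _ hx hy =>
    obtain ⟨d, hd, h⟩ := hx
    obtain ⟨d', hd', h'⟩ := hy
    refine ⟨d + d', Submodule.add_mem _ hd hd', ?_⟩
    rw [map_add, add_sub_add_comm]
    exact Submodule.add_mem _ h h'
  | smul r x _ hx =>
    obtain ⟨d, hd, h⟩ := hx
    refine ⟨pK r * d, Ideal.mul_mem_left _ _ hd, ?_⟩
    have e : r • x - sec (pK r * d) = r * (x - sec d) + sec d * (r - sec (pK r)) := by
      rw [map_mul, smul_eq_mul]; ring
    rw [e]
    exact Submodule.add_mem _ (Ideal.mul_mem_left _ _ h) (Ideal.mul_mem_mul (hJ d hd) (sub_secK r))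

/-- `J ∩ K = J K`. -/
theorem inf_eq_mul (f : T3) (hJ : f ∈ dI (k := k) (A := A) 0 1) (hK : f ∈ dI (k := k) (A := A) 0 2) :
    f ∈ dI (k := k) (A := A) 0 1 * dI 0 2 := by
  obtain ⟨d, -, h⟩ := exists_sec_sub_mem f hJ
  have h0 : pK (f - sec d) = 0 := pK_dI _ (Ideal.mul_le_right h)
  have hd : d = 0 := by
    rw [map_sub, pK_dI f hK, pK_sec, zero_sub] at h0
    exact neg_eq_zero.1 h0
  rw [hd, map_zero, sub_zero] at h
  exact h

section Main

variable (k A)

/-- `J K L`. -/
def MM : Ideal T3 := dI 0 1 * dI 0 2 * dI 1 2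

/-- The module structure of `T3 / JKL` over `A ⊗ A` along the section on factors 0, 1. -/
@[reducible] def quotModule : Module (A ⊗[k] A) (T3 ⧸ MM k A) :=
  Module.compHom _ ((Ideal.Quotient.mk (MM k A)).comp (sec (k := k) (A := A)).toRingHom)

theorem mk_smul_left (c : A ⊗[k] A) (x y : ↥DD) :
    Ideal.Quotient.mk (MM k A) (sec ((c • x : ↥DD) : A ⊗[k] A) * sec' (y : A ⊗[k] A)) =
      Ideal.Quotient.mk (MM k A) (sec c) *
        Ideal.Quotient.mk (MM k A) (sec (x : A ⊗[k] A) * sec' (y : A ⊗[k] A)) := by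
  rw [Submodule.coe_smul, smul_eq_mul, map_mul, map_mul, map_mul, map_mul, mul_assoc]

theorem mk_smul_right (c : A ⊗[k] A) (x y : ↥DD) :
    Ideal.Quotient.mk (MM k A) (sec (x : A ⊗[k] A) * sec' ((c • y : ↥DD) : A ⊗[k] A)) =
      Ideal.Quotient.mk (MM k A) (sec c) *
        Ideal.Quotient.mk (MM k A) (sec (x : A ⊗[k] A) * sec' (y : A ⊗[k] A)) := by
  refine Eq.trans ?_ (map_mul _ _ _)
  refine Ideal.Quotient.eq.2 ?_
  have e : sec (x : A ⊗[k] A) * sec' ((c • y : ↥DD) : A ⊗[k] A) -
      sec c * (sec (x : A ⊗[k] A) * sec' (y : A ⊗[k] A)) =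
      sec (x : A ⊗[k] A) * sec' (y : A ⊗[k] A) * (sec' c - sec c) := by
    rw [Submodule.coe_smul, smul_eq_mul, map_mul]; ring
  rw [e]
  refine Ideal.mul_mem_mul (Ideal.mul_mem_mul ?_ ?_) (sec'_sub_sec_mem c)
  · rw [← map_sec]; exact Ideal.mem_map_of_mem _ x.2
  · rw [← map_sec']; exact Ideal.mem_map_of_mem _ y.2

/-- `x ⊗ y ↦ s x · s' y` mod `JKL`. -/
def Phi : letI := quotModule k A
    ↥DD ⊗[A ⊗[k] A] ↥DD →ₗ[A ⊗[k] A] (T3 ⧸ MM k A) :=
  letI := quotModule k A
  TensorProduct.lift (LinearMap.mk₂ (A ⊗[k] A)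
    (fun x y => Ideal.Quotient.mk (MM k A) (sec (x : A ⊗[k] A) * sec' (y : A ⊗[k] A)))
    (fun x x' y => by simp [add_mul])
    (fun c x y => mk_smul_left k A c x y)
    (fun x y y' => by simp [mul_add])
    (fun c x y => mk_smul_right k A c x y))

theorem Phi_tmul (x y : ↥DD) : Phi k A (x ⊗ₜ y) =
    Ideal.Quotient.mk (MM k A) (sec (x : A ⊗[k] A) * sec' (y : A ⊗[k] A)) := by
  simp [Phi]

/-- Every element of `JK` is a value of `Phi` mod `JKL`. -/
theorem exists_Phi (f : T3) (hf : f ∈ dI (k := k) (A := A) 0 1 * dI 0 2) :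
    ∃ e, Phi k A e = Ideal.Quotient.mk (MM k A) f := by
  letI := quotModule k A
  suffices H : f ∈ dI (k := k) (A := A) 0 1 * dI 0 2 ∧ ∃ e, Phi k A e = Ideal.Quotient.mk (MM k A) f from H.2
  conv at hf => rw [← map_sec, ← map_sec', Ideal.map, Ideal.map, Ideal.span_mul_span]
  induction hf using Submodule.span_induction with
  | mem x hx =>
    obtain ⟨_, ⟨a, ha, rfl⟩, _, ⟨b, hb, rfl⟩, rfl⟩ := Set.mem_mul.1 hx
    exact ⟨Ideal.mul_mem_mul (map_sec (k := k) (A := A) ▸ Ideal.mem_map_of_mem _ ha)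
      (map_sec' (k := k) (A := A) ▸ Ideal.mem_map_of_mem _ hb), (⟨a, ha⟩ : ↥DD) ⊗ₜ[A ⊗[k] A] (⟨b, hb⟩ : ↥DD), Phi_tmul k A _ _⟩
  | zero => exact ⟨Submodule.zero_mem _, 0, by simp⟩
  | add x y _ _ hx hy =>
    obtain ⟨hxm, e, he⟩ := hx
    obtain ⟨hym, e', he'⟩ := hy
    exact ⟨Submodule.add_mem _ hxm hym, e + e', by rw [map_add, he, he', map_add]⟩
  | smul r x _ hx =>
    obtain ⟨hxm, e, he⟩ := hx
    refine ⟨Ideal.mul_mem_left _ _ hxm, pL r • e, ?_⟩
    rw [map_smul, he]
    change Ideal.Quotient.mk (MM k A) (sec (pL r)) * Ideal.Quotient.mk (MM k A) x = _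
    rw [← map_mul, smul_eq_mul, Ideal.Quotient.eq,
      show sec (pL r) * x - r * x = -(x * (r - sec (pL r))) by ring]
    exact Submodule.neg_mem _ (Ideal.mul_mem_mul hxm (sub_secL r))

theorem MM_le_swap : MM k A ≤ (MM k A).comap (swap12 (k := k) (A := A)) := by
  have hgen : ∀ i j a, inc (k := k) i a - inc j a ∈ dI (k := k) (A := A) i j :=
    fun i j a => Ideal.subset_span ⟨a, rfl⟩
  have h01 : dI (k := k) (A := A) 0 1 ≤ (dI 0 2).comap swap12 :=
    map_dI_le _ 0 1 _ fun a => by simpa [swap12] using hgen 0 2 a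
  have h02 : dI (k := k) (A := A) 0 2 ≤ (dI 0 1).comap swap12 :=
    map_dI_le _ 0 2 _ fun a => by simpa [swap12] using hgen 0 1 a
  have h12 : dI (k := k) (A := A) 1 2 ≤ (dI 1 2).comap swap12 :=
    map_dI_le _ 1 2 _ fun a => by
      rw [← neg_sub]
      refine Submodule.neg_mem _ ?_
      simpa [swap12] using hgen 1 2 a
  unfold MM
  rw [← Ideal.map_le_iff_le_comap, Ideal.map_mul, Ideal.map_mul]
  refine (Ideal.mul_mono (Ideal.mul_mono (Ideal.map_le_iff_le_comap.2 h01) (Ideal.map_le_iff_le_comap.2 h02))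
    (Ideal.map_le_iff_le_comap.2 h12)).trans (le_of_eq ?_)
  rw [mul_comm (dI (k := k) (A := A) 0 2) (dI 0 1)]

set_option maxHeartbeats 1000000 in
theorem mem_MM [Algebra.Smooth k A] [Nontrivial A] (h2 : (2 : k) ≠ 0) (f : T3) (hsw : swap12 f = f)
    (h01 : f ∈ dI (k := k) (A := A) 0 1) (h02 : f ∈ dI (k := k) (A := A) 0 2) (h12 : f ∈ dI (k := k) (A := A) 1 2) :
    f ∈ MM k A := by
  obtain ⟨e, he⟩ := exists_Phi k A f (inf_eq_mul f h01 h02)
  let mk := Ideal.Quotient.mk (MM k A)
  let swq : T3 ⧸ MM k A →+* T3 ⧸ MM k A :=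
    Ideal.quotientMap _ (swap12 (k := k) (A := A)).toRingHom (MM_le_swap k A)
  let plq : T3 ⧸ MM k A →+* A ⊗[k] A :=
    Ideal.Quotient.lift (MM k A) (pL (k := k) (A := A)).toRingHom fun x hx => pL_dI x (Ideal.mul_le_right hx)
  letI := quotModule k A
  have hμ : ∀ z, plq (Phi k A z) = mulD _ z := by
    intro z
    induction z with
    | zero => simp
    | tmul x y => simp [Phi_tmul, plq]
    | add a b ha hb => simp [map_add, ha, hb]
  have hswap : ∀ z, swq (Phi k A z) = Phi k A (TensorProduct.comm _ _ _ z) := by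
    intro z
    induction z with
    | zero => simp
    | tmul x y => simp [Phi_tmul, swq, mul_comm]
    | add a b ha hb => simp [map_add, ha, hb]
  have h0 : mulD _ e = 0 := by
    rw [← hμ, he]
    exact pL_dI f h12
  have h1 : mk f + mk f = 0 := by
    have : swq (mk f) = mk f := by simp [swq, mk, hsw]
    nth_rewrite 2 [← this]
    change Ideal.Quotient.mk (MM k A) f + swq (Ideal.Quotient.mk (MM k A) f) = 0
    rw [← he, hswap, ← map_add, symSquare_diagonal k A e h0, map_zero]
  rw [← map_add, Ideal.Quotient.eq_zero_iff_mem] at h1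
  have : f = algebraMap k T3 2⁻¹ * (f + f) := by
    rw [← two_smul k f, Algebra.smul_def, ← mul_assoc, ← map_mul, inv_mul_cancel₀ h2, map_one, one_mul]
  rw [this]
  exact Ideal.mul_mem_left _ _ h1

theorem swap12_eq_reindex (f : T3) :
    swap12 f = PiTensorProduct.reindex k (fun _ : Fin 3 => A) (Equiv.swap 1 2) f := by
  have : (swap12 (k := k) (A := A)).toLinearMap =
      (PiTensorProduct.reindex k (fun _ : Fin 3 => A) (Equiv.swap (1 : Fin 3) 2)).toLinearMap := by
    refine PiTensorProduct.ext (MultilinearMap.ext fun a => ?_)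
    simp only [LinearMap.compMultilinearMap_apply, AlgHom.toLinearMap_apply, LinearEquiv.coe_coe,
      PiTensorProduct.reindex_tprod]
    rw [swap12, lift3_tprod, ← prod_inc, Fin.prod_univ_three, Fin.prod_univ_three]
    simp [Equiv.swap_apply_of_ne_of_ne]
    ring
  exact DFunLike.congr_fun this f

end Main

end Groth.Agent.DiagH28
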